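import Mathlib.RingTheory.GradedAlgebra.HomogeneousLocalization
import Mathlib.RingTheory.GradedAlgebra.RingHom
import Mathlib.RingTheory.MvPolynomial.Symmetric.Defs
import Mathlib.RingTheory.Polynomial.Vieta
import Mathlib.RingTheory.Invariant.Basic

/-! Invariants of a finite group in the degree zero localizations of a graded ring. -/

set_option autoImplicit false
set_option linter.style.haveILetI false
set_option backward.isDefEq.respectTransparency false
set_option backward.isDefEq.respectTransparency.types false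

universe u

open HomogeneousLocalization

namespace Groth.Agent.ProjQuot

variable {R A C : Type u} [CommRing R] [CommRing A] [CommRing C] [Algebra R A] [Algebra R C]
  {𝒜 : ℕ → Submodule R A} [GradedAlgebra 𝒜] {𝒞 : ℕ → Submodule R C} [GradedAlgebra 𝒞]
  {G : Type u} [Group G] [MulSemiringAction G A]

/-- The data of a graded subring of invariants. -/
structure InvData (𝒜 : ℕ → Submodule R A) [GradedAlgebra 𝒜] (𝒞 : ℕ → Submodule R C) [GradedAlgebra 𝒞]
    (G : Type u) [Group G] [MulSemiringAction G A] where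
  ι : C →+* A
  inj : Function.Injective ι
  deg : ∀ (i : ℕ) (σ : G) (a : A), a ∈ 𝒜 i → σ • a ∈ 𝒜 i
  mem_of_mem : ∀ (i : ℕ) (c : C), c ∈ 𝒞 i → ι c ∈ 𝒜 i
  inv : ∀ (i : ℕ) (c : C), c ∈ 𝒞 i → ∀ σ : G, σ • ι c = ι c
  exists_of_inv : ∀ (i : ℕ) (a : A), a ∈ 𝒜 i → (∀ σ : G, σ • a = a) → ∃ c ∈ 𝒞 i, ι c = a

variable (D : InvData 𝒜 𝒞 G)

/-- The inclusion of the invariants as a graded ring map. -/
def InvData.ψ : 𝒞 →+*ᵍ 𝒜 where
  toRingHom := D.ι
  map_mem h := D.mem_of_mem _ _ h

/-- The action of an element as a graded ring map. -/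
def InvData.gr (σ : G) : 𝒜 →+*ᵍ 𝒜 where
  toRingHom := MulSemiringAction.toRingHom G A σ
  map_mem h := D.deg _ σ _ h

/-- The action of an element on a degree zero localization at an invariant element. -/
noncomputable def InvData.act {f : A} (hf : ∀ σ : G, σ • f = f) (σ : G) : Away 𝒜 f →+* Away 𝒜 f :=
  HomogeneousLocalization.map (D.gr σ) (by
    rintro _ ⟨n, rfl⟩
    exact ⟨n, ((smul_pow' σ f n).trans (by rw [hf])).symm⟩)

theorem InvData.val_act_mk {f : A} (hf : ∀ σ : G, σ • f = f) (σ : G) {d : ℕ} (hd : f ∈ 𝒜 d) (n : ℕ)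
    (a : A) (ha : a ∈ 𝒜 (n • d)) :
    (D.act hf σ (Away.mk 𝒜 hd n a ha)).val =
      Localization.mk (σ • a) ⟨f ^ n, (Submonoid.mem_powers_iff _ _).mpr ⟨n, rfl⟩⟩ := by
  simp only [InvData.act, Away.mk, HomogeneousLocalization.map_mk, HomogeneousLocalization.val_mk]
  congr 1
  exact Subtype.ext ((smul_pow' σ f n).trans (by rw [hf]))

/-- The action on a degree zero localization at an invariant element. -/
noncomputable def InvData.actHom {f : A} (hf : ∀ σ : G, σ • f = f) :
    G →* (Away 𝒜 f →+* Away 𝒜 f) where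
  toFun := D.act hf
  map_one' := by
    refine RingHom.ext fun x => HomogeneousLocalization.val_injective _ ?_
    obtain ⟨c, rfl⟩ := HomogeneousLocalization.mk_surjective x
    simp only [InvData.act, HomogeneousLocalization.map_mk, HomogeneousLocalization.val_mk]
    congr 1
    · exact one_smul G _
    · exact Subtype.ext (one_smul G _)
  map_mul' σ τ := by
    refine RingHom.ext fun x => HomogeneousLocalization.val_injective _ ?_
    obtain ⟨c, rfl⟩ := HomogeneousLocalization.mk_surjective x
    simp only [InvData.act, RingHom.coe_mul, Function.comp_apply, HomogeneousLocalization.map_mk,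
      HomogeneousLocalization.val_mk]
    congr 1
    · exact mul_smul σ τ _
    · exact Subtype.ext (mul_smul σ τ _)

/-- The action on a degree zero localization at an invariant element. -/
@[reducible] noncomputable def InvData.action {f : A} (hf : ∀ σ : G, σ • f = f) :
    MulSemiringAction G (Away 𝒜 f) :=
  MulSemiringAction.compHom _ (D.actHom hf)

theorem InvData.map_injective {n : ℕ} {c : C} (hc : c ∈ 𝒞 n) :
    Function.Injective (Away.map D.ψ c) := by
  rw [injective_iff_map_eq_zero]
  intro x hx
  obtain ⟨k, a, ha, rfl⟩ := x.mk_surjective _ hc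
  apply HomogeneousLocalization.val_injective
  have h := congrArg HomogeneousLocalization.val hx
  rw [Away.map_mk, Away.val_mk, HomogeneousLocalization.val_zero, ← Localization.mk_zero 1,
    Localization.mk_eq_mk_iff, Localization.r_iff_exists] at h
  obtain ⟨⟨_, m, rfl⟩, hm⟩ := h
  rw [Away.val_mk, HomogeneousLocalization.val_zero, ← Localization.mk_zero 1,
    Localization.mk_eq_mk_iff, Localization.r_iff_exists]
  refine ⟨⟨_, m, rfl⟩, D.inj ?_⟩
  simp only [map_mul, map_pow, map_zero, mul_zero, OneMemClass.coe_one, one_mul, mul_one] at hm ⊢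
  exact hm

theorem InvData.mem_range [Finite G] {n : ℕ} {c : C} (hc : c ∈ 𝒞 n)
    (x : Away 𝒜 (D.ψ c)) (hx : ∀ σ : G, D.act (D.inv n c hc) σ x = x) :
    x ∈ Set.range (Away.map D.ψ c) := by
  classical
  cases nonempty_fintype G
  have hf := D.mem_of_mem n c hc
  obtain ⟨k, a, ha, rfl⟩ := x.mk_surjective _ hf
  have hex : ∀ σ : G, ∃ K : ℕ, D.ι c ^ K * (σ • a) = D.ι c ^ K * a := by
    intro σ
    have h := congrArg HomogeneousLocalization.val (hx σ)
    erw [D.val_act_mk (D.inv n c hc) σ hf, Away.val_mk, Localization.mk_eq_mk_iff, Localization.r_iff_exists] at h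
    obtain ⟨⟨_, m, rfl⟩, hm⟩ := h
    refine ⟨m + k, ?_⟩
    simp only at hm
    rw [pow_add, mul_assoc, mul_assoc]
    exact hm
  choose K hK using hex
  obtain ⟨N, hN⟩ : ∃ N, ∀ σ, K σ ≤ N := ⟨Finset.univ.sup K, fun σ => Finset.le_sup (Finset.mem_univ σ)⟩
  have hfix : ∀ σ : G, σ • (D.ι c ^ N * a) = D.ι c ^ N * a := fun σ => by
    rw [smul_mul', smul_pow', D.inv n c hc σ, ← Nat.sub_add_cancel (hN σ),
      pow_add, mul_assoc, hK σ, mul_assoc]
  have hdeg : D.ι c ^ N * a ∈ 𝒜 ((N + k) • n) := by
    rw [add_smul]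
    exact SetLike.mul_mem_graded (SetLike.pow_mem_graded N hf) ha
  obtain ⟨b, hb, hba⟩ := D.exists_of_inv _ _ hdeg hfix
  refine ⟨Away.mk 𝒞 hc (N + k) b hb, HomogeneousLocalization.val_injective _ ?_⟩
  erw [Away.map_mk, Away.val_mk, Away.val_mk, Localization.mk_eq_mk_iff, Localization.r_iff_exists]
  refine ⟨1, ?_⟩
  show 1 * (D.ι c ^ k * D.ι b) = 1 * (D.ι c ^ (N + k) * a)
  rw [hba, pow_add]
  ring

/-- Every point avoiding all invariant elements of positive degree contains the degree one part. -/
theorem InvData.exists_notMem [Finite G] {P : Ideal A} [P.IsPrime] {f : A} (hf1 : f ∈ 𝒜 1)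
    (hf : f ∉ P) : ∃ (n : ℕ) (c : C), 0 < n ∧ c ∈ 𝒞 n ∧ D.ι c ∉ P := by
  classical
  cases nonempty_fintype G
  by_contra hcon
  push Not at hcon
  let s : Multiset A := (Finset.univ : Finset G).val.map (fun σ => σ • f)
  have hmem : ∀ j : ℕ, 0 < j → s.esymm j ∈ P := by
    intro j hj
    have hd : s.esymm j ∈ 𝒜 j := by
      show ((Finset.univ : Finset G).val.map (fun σ => σ • f)).esymm j ∈ _
      rw [Finset.esymm_map_val]
      refine Submodule.sum_mem _ fun T hT => ?_
      have := SetLike.prod_mem_graded 𝒜 (fun _ => 1) (fun σ => σ • f) (F := T) fun σ _ => D.deg 1 σ f hf1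
      rwa [Finset.sum_const, smul_eq_mul, mul_one, (Finset.mem_powersetCard.mp hT).2] at this
    have hi : ∀ τ : G, τ • s.esymm j = s.esymm j := by
      intro τ
      have h1 : τ • s.esymm j = (s.map fun a => τ • a).esymm j := by
        simp only [Multiset.esymm, Multiset.powersetCard_map, Multiset.map_map]
        show MulSemiringAction.toRingHom G A τ _ = _
        rw [map_multiset_sum, Multiset.map_map]
        congr 1
        refine Multiset.map_congr rfl fun T _ => ?_
        simp only [Function.comp_apply]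
        rw [map_multiset_prod]
        rfl
      rw [h1]
      congr 1
      show (((Finset.univ : Finset G).val.map (fun σ => σ • f)).map fun a => τ • a) = _
      rw [Multiset.map_map]
      conv_rhs => rw [show s = (((Finset.univ : Finset G).map (Equiv.mulLeft τ).toEmbedding).val.map
        (fun σ => σ • f)) by rw [Finset.map_univ_equiv]]
      rw [Finset.map_val, Multiset.map_map]
      exact Multiset.map_congr rfl fun σ _ => (mul_smul τ σ f).symm
    obtain ⟨c, hc, hca⟩ := D.exists_of_inv j _ hd hi
    exact hca ▸ hcon j c hj hc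
  have hev := congrArg (Polynomial.eval f) (Multiset.prod_X_sub_X_eq_sum_esymm s)
  rw [Polynomial.eval_multiset_prod, Multiset.map_map,
    Multiset.prod_eq_zero, Polynomial.eval_finsetSum, Finset.sum_range_succ'] at hev
  · refine hf (‹P.IsPrime›.mem_of_pow_mem (Multiset.card s) ?_)
    simp only [Polynomial.eval_mul, Polynomial.eval_pow, Polynomial.eval_neg, Polynomial.eval_one,
      Polynomial.eval_C, Polynomial.eval_X, pow_zero, one_mul, Nat.sub_zero] at hev
    rw [show Multiset.esymm s 0 = 1 by simp [Multiset.esymm], one_mul] at hev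
    have hsum : f ^ Multiset.card s = - ∑ k ∈ Finset.range (Multiset.card s),
        (-1) ^ (k + 1) * (s.esymm (k + 1) * f ^ (Multiset.card s - (k + 1))) := by
      linear_combination hev.symm
    rw [hsum]
    exact P.neg_mem (P.sum_mem fun k _ => P.mul_mem_left _ (P.mul_mem_right _ (hmem _ k.succ_pos)))
  · refine Multiset.mem_map.mpr ⟨f, Multiset.mem_map.mpr ⟨1, Finset.mem_univ _, one_smul G f⟩, by simp⟩

end Groth.Agent.ProjQuot
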