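import Groth.Agent.ProjQuot.Alg
import Groth.Agent.SGA1Q.Affine
import Mathlib.AlgebraicGeometry.ProjectiveSpectrum.Functor

/-! The quotient of a `Proj` by a finite group of graded automorphisms is the `Proj` of the invariants. -/

set_option autoImplicit false
set_option linter.style.haveILetI false
set_option backward.isDefEq.respectTransparency false
set_option backward.isDefEq.respectTransparency.types false

universe u

open CategoryTheory CategoryTheory.Limits AlgebraicGeometry HomogeneousLocalization TopologicalSpace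

namespace Groth.Agent.ProjQuot

theorem bijective_appLE_range {X' X : Scheme.{u}} (j : X' ⟶ X) [IsOpenImmersion j] (U : X.Opens)
    (h : j.opensRange = U) (e : ⊤ ≤ j ⁻¹ᵁ U) : Function.Bijective (j.appLE U ⊤ e).hom := by
  haveI := j.isIso_app U h.ge
  have he : (⊤ : X'.Opens) = j ⁻¹ᵁ U := le_antisymm e le_top
  haveI : IsIso (j.appLE U ⊤ e) := by
    rw [Scheme.Hom.appLE]
    haveI : IsIso (homOfLE e) := by
      rw [show homOfLE e = eqToHom he from Subsingleton.elim _ _]; infer_instance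
    infer_instance
  exact ConcreteCategory.bijective_of_isIso _

theorem transfer {G : Type u} [Group G] {X Y X' Y' : Scheme.{u}} {ρ : G →* Aut X} {p : X ⟶ Y}
    (hinv : ∀ g : G, (ρ g).hom ≫ p = p) {ρ' : G →* Aut X'} {p' : X' ⟶ Y'} (hq : SGA1.IsQuot ρ' p')
    (jX : X' ⟶ X) (jY : Y' ⟶ Y) [IsOpenImmersion jX] [IsOpenImmersion jY] (sq : jX ≫ p = p' ≫ jY)
    (hρ : ∀ g : G, (ρ' g).hom ≫ jX = jX ≫ (ρ g).hom) (U : Y.Opens) (hU : jY.opensRange = U)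
    (hV : jX.opensRange = p ⁻¹ᵁ U) :
    Function.Injective (p.app U).hom ∧
      ∀ s : Γ(X, p ⁻¹ᵁ U), (∀ g : G, ((ρ g).hom.appLE (p ⁻¹ᵁ U) (p ⁻¹ᵁ U)
        (SGA1.preimage_le_of_inv ρ p hinv g U)).hom s = s) → s ∈ Set.range (p.app U).hom := by
  have eY : ⊤ ≤ jY ⁻¹ᵁ U := fun y _ => hU.le ⟨y, rfl⟩
  have eX : ⊤ ≤ jX ⁻¹ᵁ (p ⁻¹ᵁ U) := fun y _ => hV.le ⟨y, rfl⟩
  have bY := bijective_appLE_range jY U hU eY
  have bX := bijective_appLE_range jX _ hV eX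
  have key : p.appLE U (p ⁻¹ᵁ U) le_rfl ≫ jX.appLE (p ⁻¹ᵁ U) ⊤ eX =
      jY.appLE U ⊤ eY ≫ p'.appLE ⊤ ⊤ le_rfl := by
    rw [Scheme.Hom.appLE_comp_appLE, Scheme.Hom.appLE_comp_appLE]
    exact SGA1Q.appLE_congr_hom sq _ _
  have key' : ∀ y, (jX.appLE (p ⁻¹ᵁ U) ⊤ eX).hom ((p.app U).hom y) =
      (p'.app ⊤).hom ((jY.appLE U ⊤ eY).hom y) := fun y => by
    rw [Scheme.Hom.app_eq_appLE, Scheme.Hom.app_eq_appLE]
    exact congr(($key).hom y)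
  refine ⟨fun y z h => bY.injective (hq.injective ⊤ ?_), fun s hs => ?_⟩
  · rw [← key', ← key', h]
  · have hr : (jX.appLE (p ⁻¹ᵁ U) ⊤ eX).hom s ∈ Set.range (p'.app ⊤).hom := by
      refine (hq.range_iff ⊤ _).mpr fun g => ?_
      have k2 : (ρ g).hom.appLE (p ⁻¹ᵁ U) (p ⁻¹ᵁ U) (SGA1.preimage_le_of_inv ρ p hinv g U) ≫
          jX.appLE (p ⁻¹ᵁ U) ⊤ eX = jX.appLE (p ⁻¹ᵁ U) ⊤ eX ≫
            (ρ' g).hom.appLE ⊤ ⊤ (fun _ _ => trivial) := by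
        rw [Scheme.Hom.appLE_comp_appLE, Scheme.Hom.appLE_comp_appLE]
        exact SGA1Q.appLE_congr_hom (hρ g).symm _ _
      have h3 : (jX.appLE (p ⁻¹ᵁ U) ⊤ eX).hom (((ρ g).hom.appLE (p ⁻¹ᵁ U) (p ⁻¹ᵁ U)
          (SGA1.preimage_le_of_inv ρ p hinv g U)).hom s) = _ := congr(($k2).hom s)
      exact h3.symm.trans (congrArg (fun z => (jX.appLE (p ⁻¹ᵁ U) ⊤ eX).hom z) (hs g))
    obtain ⟨t, ht⟩ := hr
    obtain ⟨y, rfl⟩ := bY.surjective t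
    exact ⟨y, bX.injective ((key' y).trans ht)⟩

variable {R A C : Type u} [CommRing R] [CommRing A] [CommRing C] [Algebra R A] [Algebra R C]
  {𝒜 : ℕ → Submodule R A} [GradedAlgebra 𝒜] {𝒞 : ℕ → Submodule R C} [GradedAlgebra 𝒞]
  {G : Type u} [Group G] [MulSemiringAction G A]

theorem eq_map_of_val (D : InvData 𝒜 𝒞 G) {n : ℕ} {c : C} (hc : c ∈ 𝒞 n)
    (θ : Away 𝒞 c →+* Away 𝒜 (D.ι c))
    (h : ∀ (k : ℕ) (a : C) (ha : a ∈ 𝒞 (k • n)), (θ (Away.mk 𝒞 hc k a ha)).val =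
      Localization.mk (D.ι a) ⟨D.ι c ^ k, (Submonoid.mem_powers_iff _ _).mpr ⟨k, rfl⟩⟩) :
    θ = Away.map D.ψ c := by
  refine RingHom.ext fun x => HomogeneousLocalization.val_injective _ ?_
  obtain ⟨k, a, ha, rfl⟩ := x.mk_surjective _ hc
  rw [h k a ha]
  erw [Away.map_mk, Away.val_mk]
  rfl

theorem awayι_act (D : InvData 𝒜 𝒞 G) {n : ℕ} {f f' : A} (hn : 0 < n) (hf : f ∈ 𝒜 n) (hf' : f' ∈ 𝒜 n)
    (hinv : ∀ σ : G, σ • f = f) (σ : G) (e : f' = f) (θ : Away 𝒜 f →+* Away 𝒜 f')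
    (hθ : ∀ (k : ℕ) (a : A) (ha : a ∈ 𝒜 (k • n)), (θ (Away.mk 𝒜 hf k a ha)).val =
      Localization.mk (σ • a) ⟨f' ^ k, (Submonoid.mem_powers_iff _ _).mpr ⟨k, rfl⟩⟩)
    (r : Proj 𝒜 ⟶ Proj 𝒜)
    (hr : Proj.awayι 𝒜 f' hf' hn ≫ r = Spec.map (CommRingCat.ofHom θ) ≫ Proj.awayι 𝒜 f hf hn) :
    Proj.awayι 𝒜 f hf hn ≫ r =
      Spec.map (CommRingCat.ofHom (D.act hinv σ)) ≫ Proj.awayι 𝒜 f hf hn := by
  subst e
  rw [show D.act hinv σ = θ from RingHom.ext fun x => HomogeneousLocalization.val_injective _ (by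
    obtain ⟨k, a, ha, rfl⟩ := x.mk_surjective _ hf
    rw [hθ k a ha, D.val_act_mk hinv σ hf])]
  exact hr

theorem awayMap_mk {A B : Type u} [CommRing A] [CommRing B] (g : A →+* B) (f a : A) (k : ℕ) :
    Localization.awayMap g f (Localization.mk a ⟨f ^ k, (Submonoid.mem_powers_iff _ _).mpr ⟨k, rfl⟩⟩) =
      Localization.mk (g a) ⟨g f ^ k, (Submonoid.mem_powers_iff _ _).mpr ⟨k, rfl⟩⟩ := by
  simp only [Localization.awayMap, IsLocalization.Away.map, Localization.mk_eq_mk', IsLocalization.map_mk']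
  congr 1
  exact Subtype.ext (map_pow g f k)

theorem val_condition {A B : Type u} [CommRing A] [Algebra R A] [CommRing B] [Algebra R B]
    {𝒜 : ℕ → Submodule R A} [GradedAlgebra 𝒜] {ℬ : ℕ → Submodule R B} [GradedAlgebra ℬ]
    (φ : 𝒜 →+*ᵍ ℬ) (g : A →+* B) (hg : ∀ x, φ x = g x) {n : ℕ} {f : A} (hf : f ∈ 𝒜 n)
    (f' : B) (e : g f = f') (k : ℕ) (a : A) (ha : a ∈ 𝒜 (k • n))
    (θ : Away 𝒜 f →+* Away ℬ (g f))
    (hθ : θ = HomogeneousLocalization.map φ (by rintro _ ⟨m, rfl⟩; exact ⟨m, by simp [hg]⟩)) :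
    (θ (Away.mk 𝒜 hf k a ha)).val = Localization.mk (g a) ⟨g f ^ k, (Submonoid.mem_powers_iff _ _).mpr ⟨k, rfl⟩⟩ := by
  subst hθ
  simp only [Away.mk, HomogeneousLocalization.map_mk, HomogeneousLocalization.val_mk, hg]
  congr 1
  exact Subtype.ext (map_pow g f k)

theorem exists_pos_notMem (x : Proj 𝒞) : ∃ (n : ℕ) (c : C), 0 < n ∧ c ∈ 𝒞 n ∧ c ∉ x.asHomogeneousIdeal := by
  classical
  by_contra hcon
  push Not at hcon
  refine x.not_irrelevant_le fun a ha => ?_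
  rw [HomogeneousIdeal.mem_irrelevant_iff, GradedRing.proj_apply] at ha
  rw [← DirectSum.sum_support_decompose 𝒞 a]
  refine x.asHomogeneousIdeal.toIdeal.sum_mem fun i _ => ?_
  rcases Nat.eq_zero_or_pos i with rfl | hi
  · rw [ha]; exact zero_mem _
  · exact hcon i _ hi (SetLike.coe_mem _)

theorem preimage_basicOpen (D : InvData 𝒜 𝒞 G) (π : Proj 𝒜 ⟶ Proj 𝒞)
    (hπ0 : ∀ (n : ℕ) (c : C) (hn : 0 < n) (hc : c ∈ 𝒞 n),
      Proj.awayι 𝒜 (D.ι c) (D.mem_of_mem n c hc) hn ≫ π =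
        Spec.map (CommRingCat.ofHom (Away.map D.ψ c : Away 𝒞 c →+* Away 𝒜 (D.ι c))) ≫
          Proj.awayι 𝒞 c hc hn)
    (cov : ∀ x : Proj 𝒜, ∃ (n : ℕ) (c : C), 0 < n ∧ c ∈ 𝒞 n ∧ D.ι c ∉ x.asHomogeneousIdeal)
    (n : ℕ) (c : C) (hn : 0 < n) (hc : c ∈ 𝒞 n) :
    π ⁻¹ᵁ Proj.basicOpen 𝒞 c = Proj.basicOpen 𝒜 (D.ι c) := by
  ext x
  obtain ⟨m, d, hm, hd, hxd⟩ := cov x
  have hxr : x ∈ (Proj.awayι 𝒜 (D.ι d) (D.mem_of_mem m d hd) hm).opensRange := by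
    rw [Proj.opensRange_awayι]; exact hxd
  obtain ⟨y, rfl⟩ := hxr
  show π (Proj.awayι 𝒜 (D.ι d) (D.mem_of_mem m d hd) hm y) ∈ Proj.basicOpen 𝒞 c ↔
    y ∈ Proj.awayι 𝒜 (D.ι d) (D.mem_of_mem m d hd) hm ⁻¹ᵁ Proj.basicOpen 𝒜 (D.ι c)
  rw [← Scheme.Hom.comp_apply, hπ0 m d hm hd, Scheme.Hom.comp_apply]
  show Spec.map _ y ∈ Proj.awayι 𝒞 d hd hm ⁻¹ᵁ Proj.basicOpen 𝒞 c ↔ _
  rw [Proj.awayι_preimage_basicOpen 𝒞 hd hm hc hn,
    Proj.awayι_preimage_basicOpen 𝒜 (D.mem_of_mem m d hd) hm (D.mem_of_mem n c hc) hn]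
  show (Away.map D.ψ d : Away 𝒞 d →+* Away 𝒜 (D.ι d)) (Away.isLocalizationElem hd hc) ∉ y.asIdeal ↔
    Away.isLocalizationElem (D.mem_of_mem m d hd) (D.mem_of_mem n c hc) ∉ y.asIdeal
  have e : (Away.map D.ψ d : Away 𝒞 d →+* Away 𝒜 (D.ι d)) (Away.isLocalizationElem hd hc) =
      Away.isLocalizationElem (D.mem_of_mem m d hd) (D.mem_of_mem n c hc) := by
    apply HomogeneousLocalization.val_injective
    erw [Away.map_mk, Away.val_mk, Away.val_mk]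
    congr 1
    exact map_pow D.ι c m
  rw [e]

theorem comp_eq (D : InvData 𝒜 𝒞 G) (ρ : G →* Aut (Proj 𝒜)) (π : Proj 𝒜 ⟶ Proj 𝒞)
    (hπ0 : ∀ (n : ℕ) (c : C) (hn : 0 < n) (hc : c ∈ 𝒞 n),
      Proj.awayι 𝒜 (D.ι c) (D.mem_of_mem n c hc) hn ≫ π =
        Spec.map (CommRingCat.ofHom (Away.map D.ψ c : Away 𝒞 c →+* Away 𝒜 (D.ι c))) ≫
          Proj.awayι 𝒞 c hc hn)
    (hact : ∀ (n : ℕ) (c : C) (hn : 0 < n) (hc : c ∈ 𝒞 n) (σ : G),
      Proj.awayι 𝒜 (D.ι c) (D.mem_of_mem n c hc) hn ≫ (ρ σ).inv =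
        Spec.map (CommRingCat.ofHom (D.act (D.inv n c hc) σ)) ≫
          Proj.awayι 𝒜 (D.ι c) (D.mem_of_mem n c hc) hn)
    (cov : ∀ x : Proj 𝒜, ∃ (n : ℕ) (c : C), 0 < n ∧ c ∈ 𝒞 n ∧ D.ι c ∉ x.asHomogeneousIdeal) (g : G) : (ρ g).hom ≫ π = π := by
  rw [← cancel_epi (ρ g).inv, Iso.inv_hom_id_assoc]
  choose n c hn hc hx using cov
  let 𝒰 : (Proj 𝒜).OpenCover := Scheme.Cover.mkOfCovers (Proj 𝒜)
    (fun x => Spec (CommRingCat.of (Away 𝒜 (D.ι (c x)))))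
    (fun x => Proj.awayι 𝒜 (D.ι (c x)) (D.mem_of_mem (n x) (c x) (hc x)) (hn x))
    (fun x => ⟨x, by
      have : x ∈ (Proj.awayι 𝒜 (D.ι (c x)) (D.mem_of_mem (n x) (c x) (hc x)) (hn x)).opensRange := by
        rw [Proj.opensRange_awayι]; exact hx x
      exact this⟩)
    (fun x => inferInstanceAs (IsOpenImmersion _))
  refine 𝒰.hom_ext _ _ fun x => ?_
  show Proj.awayι 𝒜 (D.ι (c x)) (D.mem_of_mem (n x) (c x) (hc x)) (hn x) ≫ π =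
    Proj.awayι 𝒜 (D.ι (c x)) (D.mem_of_mem (n x) (c x) (hc x)) (hn x) ≫ (ρ g).inv ≫ π
  rw [reassoc_of% hact (n x) (c x) (hn x) (hc x) g, hπ0 (n x) (c x) (hn x) (hc x), ← Category.assoc,
    ← Spec.map_comp]
  congr 2
  refine CommRingCat.hom_ext (RingHom.ext fun z => HomogeneousLocalization.val_injective _ ?_)
  obtain ⟨k, a, ha, rfl⟩ := z.mk_surjective _ (hc x)
  show _ = (D.act (D.inv (n x) (c x) (hc x)) g ((Away.map D.ψ (c x) : Away 𝒞 (c x) →+* Away 𝒜 (D.ι (c x)))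
    (Away.mk 𝒞 (hc x) k a ha))).val
  erw [Away.map_mk]
  rw [D.val_act_mk]
  show Localization.mk (D.ι a) _ = Localization.mk (g • D.ι a) _
  rw [D.inv _ a ha g]
  rfl

/-- An action on a ring as an action on its spectrum. -/
noncomputable def specAction {B : Type u} [CommRing B] (a : G →* (B →+* B)) :
    G →* Aut (Spec (CommRingCat.of B)) where
  toFun σ :=
    { hom := Spec.map (CommRingCat.ofHom (a σ⁻¹))
      inv := Spec.map (CommRingCat.ofHom (a σ))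
      hom_inv_id := by
        rw [← Spec.map_comp, ← CommRingCat.ofHom_comp, ← RingHom.mul_def, ← map_mul, inv_mul_cancel,
          map_one]
        exact Spec.map_id _
      inv_hom_id := by
        rw [← Spec.map_comp, ← CommRingCat.ofHom_comp, ← RingHom.mul_def, ← map_mul, mul_inv_cancel,
          map_one]
        exact Spec.map_id _ }
  map_one' := by
    ext1
    show Spec.map _ = 𝟙 _
    rw [inv_one, map_one]
    exact Spec.map_id _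
  map_mul' σ τ := by
    ext1
    show Spec.map _ = Spec.map _ ≫ Spec.map _
    rw [← Spec.map_comp, ← CommRingCat.ofHom_comp, ← RingHom.mul_def, ← map_mul, mul_inv_rev]

theorem isQuot_specAction [Finite G] {B B₀ : Type u} [CommRing B] [CommRing B₀] (a : G →* (B →+* B))
    (φ : B₀ →+* B) (hφ : Function.Injective φ) (hfix : ∀ σ b, a σ (φ b) = φ b)
    (hrange : ∀ x, (∀ σ, a σ x = x) → x ∈ Set.range φ) :
    SGA1.IsQuot (specAction a) (Spec.map (CommRingCat.ofHom φ)) := by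
  letI : MulSemiringAction G B := MulSemiringAction.compHom B a
  letI := φ.toAlgebra
  haveI : FaithfulSMul B₀ B := (faithfulSMul_iff_algebraMap_injective _ _).mpr hφ
  haveI : SMulCommClass G B₀ B := ⟨fun σ b z => by
    rw [Algebra.smul_def, Algebra.smul_def, smul_mul']
    congr 1
    exact hfix σ b⟩
  haveI : Algebra.IsInvariant B₀ B G := ⟨fun z hz => hrange z hz⟩
  refine SGA1Q.isQuot_Spec G _ _ (specAction a) (Set.ext fun z => ⟨?_, ?_⟩)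
  · rintro ⟨σ, rfl⟩; exact ⟨σ⁻¹, rfl⟩
  · rintro ⟨σ, rfl⟩
    refine ⟨σ⁻¹, ?_⟩
    show Spec.map (CommRingCat.ofHom (a σ⁻¹⁻¹)) = _
    rw [inv_inv]
    rfl

theorem InvData.act_map (D : InvData 𝒜 𝒞 G) {n : ℕ} {c : C} (hc : c ∈ 𝒞 n) (σ : G) (b : Away 𝒞 c) :
    D.actHom (f := D.ι c) (D.inv n c hc) σ ((Away.map D.ψ c : Away 𝒞 c →+* Away 𝒜 (D.ι c)) b) =
      (Away.map D.ψ c : Away 𝒞 c →+* Away 𝒜 (D.ι c)) b := by
  apply HomogeneousLocalization.val_injective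
  obtain ⟨k, a, ha, rfl⟩ := b.mk_surjective _ hc
  have e : (Away.map D.ψ c : Away 𝒞 c →+* Away 𝒜 (D.ι c)) (Away.mk 𝒞 hc k a ha) =
      Away.mk 𝒜 (D.mem_of_mem n c hc) k (D.ι a) (D.mem_of_mem _ a ha) := Away.map_mk D.ψ c hc k a ha
  rw [e]
  show (D.act (D.inv n c hc) σ (Away.mk 𝒜 (D.mem_of_mem n c hc) k (D.ι a) (D.mem_of_mem _ a ha))).val = _
  rw [D.val_act_mk, Away.val_mk, D.inv _ a ha σ]

theorem local_invariants [Finite G] (D : InvData 𝒜 𝒞 G) (ρ : G →* Aut (Proj 𝒜)) (π : Proj 𝒜 ⟶ Proj 𝒞)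
    (hπ0 : ∀ (n : ℕ) (c : C) (hn : 0 < n) (hc : c ∈ 𝒞 n),
      Proj.awayι 𝒜 (D.ι c) (D.mem_of_mem n c hc) hn ≫ π =
        Spec.map (CommRingCat.ofHom (Away.map D.ψ c : Away 𝒞 c →+* Away 𝒜 (D.ι c))) ≫
          Proj.awayι 𝒞 c hc hn)
    (hact : ∀ (n : ℕ) (c : C) (hn : 0 < n) (hc : c ∈ 𝒞 n) (σ : G),
      Proj.awayι 𝒜 (D.ι c) (D.mem_of_mem n c hc) hn ≫ (ρ σ).inv =
        Spec.map (CommRingCat.ofHom (D.act (D.inv n c hc) σ)) ≫
          Proj.awayι 𝒜 (D.ι c) (D.mem_of_mem n c hc) hn)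
    (hinv : ∀ g : G, (ρ g).hom ≫ π = π) (n : ℕ) (c : C) (hn : 0 < n) (hc : c ∈ 𝒞 n)
    (hpre : π ⁻¹ᵁ Proj.basicOpen 𝒞 c = Proj.basicOpen 𝒜 (D.ι c)) :
    Function.Injective (π.app (Proj.basicOpen 𝒞 c)).hom ∧
      ∀ s : Γ(Proj 𝒜, π ⁻¹ᵁ Proj.basicOpen 𝒞 c), (∀ g : G, ((ρ g).hom.appLE (π ⁻¹ᵁ Proj.basicOpen 𝒞 c) (π ⁻¹ᵁ Proj.basicOpen 𝒞 c)
        (SGA1.preimage_le_of_inv ρ π hinv g _)).hom s = s) → s ∈ Set.range (π.app (Proj.basicOpen 𝒞 c)).hom := by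
  have hq := isQuot_specAction (D.actHom (f := D.ι c) (D.inv n c hc))
    (Away.map D.ψ c : Away 𝒞 c →+* Away 𝒜 (D.ι c)) (D.map_injective hc) (D.act_map hc) (D.mem_range hc)
  refine transfer hinv hq (Proj.awayι 𝒜 (D.ι c) (D.mem_of_mem n c hc) hn) (Proj.awayι 𝒞 c hc hn)
    (hπ0 n c hn hc) (fun σ => ?_)
    _ (Proj.opensRange_awayι ..) ((Proj.opensRange_awayι ..).trans hpre.symm)
  show Spec.map (CommRingCat.ofHom (D.act (D.inv n c hc) σ⁻¹)) ≫ _ = _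
  rw [← hact n c hn hc σ⁻¹, map_inv]
  rfl

/-- `Proj` of the invariants is the quotient. -/
theorem isQuot_proj [Finite G] (D : InvData 𝒜 𝒞 G)
    (hcov : ∀ x : Proj 𝒜, ∃ f ∈ 𝒜 1, f ∉ x.asHomogeneousIdeal)
    (ρ : G →* Aut (Proj 𝒜))
    (hρ : ∀ (σ : G) (n : ℕ) (f : A) (hn : 0 < n) (hf : f ∈ 𝒜 n)
      (θ : CommRingCat.of (Away 𝒜 f) ⟶ CommRingCat.of (Away 𝒜 (σ • f))),
      (algebraMap (Away 𝒜 (σ • f)) (Localization.Away (σ • f))).comp θ.hom =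
        (Localization.awayMap (MulSemiringAction.toRingHom G A σ) f).comp
          (algebraMap (Away 𝒜 f) (Localization.Away f)) →
      Proj.awayι 𝒜 (σ • f) (D.deg n σ f hf) hn ≫ (ρ σ).inv = Spec.map θ ≫ Proj.awayι 𝒜 f hf hn)
    (π : Proj 𝒜 ⟶ Proj 𝒞)
    (hπ : ∀ (n : ℕ) (c : C) (hn : 0 < n) (hc : c ∈ 𝒞 n)
      (θ : CommRingCat.of (Away 𝒞 c) ⟶ CommRingCat.of (Away 𝒜 (D.ι c))),
      (algebraMap (Away 𝒜 (D.ι c)) (Localization.Away (D.ι c))).comp θ.hom =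
        (Localization.awayMap D.ι c).comp (algebraMap (Away 𝒞 c) (Localization.Away c)) →
      Proj.awayι 𝒜 (D.ι c) (D.mem_of_mem n c hc) hn ≫ π = Spec.map θ ≫ Proj.awayι 𝒞 c hc hn) :
    SGA1.IsQuot ρ π := by
  have hπ0 : ∀ (n : ℕ) (c : C) (hn : 0 < n) (hc : c ∈ 𝒞 n),
      Proj.awayι 𝒜 (D.ι c) (D.mem_of_mem n c hc) hn ≫ π =
        Spec.map (CommRingCat.ofHom (Away.map D.ψ c : Away 𝒞 c →+* Away 𝒜 (D.ι c))) ≫
          Proj.awayι 𝒞 c hc hn := by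
    intro n c hn hc
    refine hπ n c hn hc _ (RingHom.ext fun x => ?_)
    obtain ⟨k, a, ha, rfl⟩ := x.mk_surjective _ hc
    show ((Away.map D.ψ c : Away 𝒞 c →+* Away 𝒜 (D.ι c)) (Away.mk 𝒞 hc k a ha)).val =
      Localization.awayMap D.ι c (Away.mk 𝒞 hc k a ha).val
    rw [Away.val_mk, awayMap_mk]
    exact val_condition D.ψ D.ι (fun _ => rfl) hc _ rfl k a ha _ rfl
  -- covering of the source
  have cov : ∀ x : Proj 𝒜, ∃ (n : ℕ) (c : C), 0 < n ∧ c ∈ 𝒞 n ∧ D.ι c ∉ x.asHomogeneousIdeal := by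
    intro x
    obtain ⟨f, hf, hfx⟩ := hcov x
    haveI := x.isPrime
    exact D.exists_notMem hf hfx
  -- the action on the charts
  have hact : ∀ (n : ℕ) (c : C) (hn : 0 < n) (hc : c ∈ 𝒞 n) (σ : G),
      Proj.awayι 𝒜 (D.ι c) (D.mem_of_mem n c hc) hn ≫ (ρ σ).inv =
        Spec.map (CommRingCat.ofHom (D.act (D.inv n c hc) σ)) ≫
          Proj.awayι 𝒜 (D.ι c) (D.mem_of_mem n c hc) hn := by
    intro n c hn hc σ
    have hf := D.mem_of_mem n c hc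
    let θ : Away 𝒜 (D.ι c) →+* Away 𝒜 (σ • D.ι c) := Away.map (D.gr σ) (D.ι c)
    have hθ : ∀ (k : ℕ) (a : A) (ha : a ∈ 𝒜 (k • n)), (θ (Away.mk 𝒜 hf k a ha)).val =
        Localization.mk (σ • a) ⟨(σ • D.ι c) ^ k, (Submonoid.mem_powers_iff _ _).mpr ⟨k, rfl⟩⟩ :=
      fun k a ha => val_condition (D.gr σ) (MulSemiringAction.toRingHom G A σ) (fun _ => rfl) hf _ rfl k a ha _ rfl
    refine awayι_act D hn hf (D.deg n σ _ hf) (D.inv n c hc) σ (D.inv n c hc σ) θ hθ _ ?_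
    refine hρ σ n (D.ι c) hn hf (CommRingCat.ofHom θ) (RingHom.ext fun x => ?_)
    obtain ⟨k, a, ha, rfl⟩ := x.mk_surjective _ hf
    show (θ (Away.mk 𝒜 hf k a ha)).val =
      Localization.awayMap (MulSemiringAction.toRingHom G A σ) (D.ι c) (Away.mk 𝒜 hf k a ha).val
    rw [Away.val_mk, awayMap_mk, hθ k a ha]
    rfl
  have hinv := comp_eq D ρ π hπ0 hact cov
  have haff : IsAffineHom π := isAffineHom_of_forall_exists_isAffineOpen π fun y => by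
    obtain ⟨n, c, hn, hc, hy⟩ := exists_pos_notMem y
    refine ⟨_, hy, Proj.isAffineOpen_basicOpen 𝒞 c hc hn, ?_⟩
    rw [preimage_basicOpen D π hπ0 cov n c hn hc]
    exact Proj.isAffineOpen_basicOpen 𝒜 _ (D.mem_of_mem n c hc) hn
  refine SGA1Q.isQuot_of_affine_cover haff hinv fun y => ?_
  obtain ⟨n, c, hn, hc, hy⟩ := exists_pos_notMem y
  exact ⟨Proj.basicOpen 𝒞 c, Proj.isAffineOpen_basicOpen 𝒞 c hc hn, hy,
    local_invariants D ρ π hπ0 hact hinv n c hn hc (preimage_basicOpen D π hπ0 cov n c hn hc)⟩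

end Groth.Agent.ProjQuot
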